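import Mathlib.Algebra.Homology.HomotopyCategory.Plus
import Mathlib.Algebra.Category.Grp.Abelian
import Mathlib.Algebra.Homology.ShortComplex.Ab
import Mathlib.Algebra.Category.Grp.Zero
import Mathlib.Algebra.Homology.Embedding.CochainComplex

/-!
# The kernel of the first differential of a family of exact columns
-/

set_option autoImplicit false

universe u v w
open CategoryTheory CategoryTheory.Limits

namespace Groth.ProperFibDescLib

variable {B : Type v} [Category.{w} B] [Abelian B]
  (T : ℕ → (B ⥤ AddCommGrpCat.{u})) [∀ p, (T p).Additive] (d : ∀ p, T p ⟶ T (p + 1))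
  (R : B ⥤ AddCommGrpCat.{u}) [R.Additive] (e : R ⟶ T 0)

theorem map_d_d (F : B ⥤ AddCommGrpCat.{u}) [F.Additive] (C : CochainComplex B ℤ) (i j k : ℤ)
    (x : F.obj (C.X i)) : F.map (C.d j k) (F.map (C.d i j) x) = 0 := by
  rw [← ConcreteCategory.comp_apply, ← Functor.map_comp, C.d_comp_d, Functor.map_zero]
  rfl

/-- Cycles killed by the coface maps are boundaries of elements killed by the coface maps, as soon as
the columns are exact and the rows are exact in positive degrees. -/
theorem exists_preimage_of_columns (C : CochainComplex B ℤ) (n₀ : ℤ) [C.IsStrictlyGE n₀]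
    (hd : ∀ p n (x : (T p).obj (C.X n)), (d (p + 1)).app _ ((d p).app _ x) = 0)
    (hrow : ∀ p n (x : (T (p + 1)).obj (C.X n)), (d (p + 1)).app _ x = 0 →
      ∃ y : (T p).obj (C.X n), (d p).app _ y = x)
    (hcol : ∀ p i j k, i + 1 = j → j + 1 = k → ∀ x : (T p).obj (C.X j), (T p).map (C.d j k) x = 0 →
      ∃ y : (T p).obj (C.X i), (T p).map (C.d i j) y = x) :
    ∀ (m : ℕ) (p : ℕ) (i j : ℤ), i + 1 = j → j < n₀ + m → ∀ x : (T p).obj (C.X j),
      (T p).map (C.d j (j + 1)) x = 0 → (d p).app _ x = 0 →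
        ∃ y : (T p).obj (C.X i), (T p).map (C.d i j) y = x ∧ (d p).app _ y = 0 := by
  intro m
  induction m with
  | zero =>
    intro p i j hij hj x _ _
    refine ⟨0, ?_, map_zero _⟩
    rw [map_zero]
    exact ((AddCommGrpCat.subsingleton_of_isZero
      ((T p).map_isZero (C.isZero_of_isStrictlyGE n₀ j (by simpa using hj)))).elim _ _)
  | succ m ih =>
    intro p i j hij hj x hx hdx
    obtain ⟨y, hy⟩ := hcol p i j (j + 1) hij rfl x hx
    have hz : (T (p + 1)).map (C.d i j) ((d p).app _ y) = 0 := by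
      rw [← NatTrans.naturality_apply (d p) (C.d i j) y, hy, hdx]
    obtain ⟨w, hw, hdw⟩ := ih (p + 1) (i - 1) i (by omega) (by push_cast at hj ⊢; omega) ((d p).app _ y)
      (by rw [hij]; exact hz) (hd p i y)
    obtain ⟨v, rfl⟩ := hrow p (i - 1) w hdw
    refine ⟨y - (T p).map (C.d (i - 1) i) v, ?_, ?_⟩
    · rw [map_sub, map_d_d, sub_zero, hy]
    · rw [map_sub, NatTrans.naturality_apply, hw, sub_self]

/-- If the columns are exact, so is the complex of kernels. -/
theorem acyclic_of_columns (C : CochainComplex B ℤ) (n₀ : ℤ) [C.IsStrictlyGE n₀]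
    (hd : ∀ p n (x : (T p).obj (C.X n)), (d (p + 1)).app _ ((d p).app _ x) = 0)
    (hrow : ∀ p n (x : (T (p + 1)).obj (C.X n)), (d (p + 1)).app _ x = 0 →
      ∃ y : (T p).obj (C.X n), (d p).app _ y = x)
    (he : ∀ n, Function.Injective (e.app (C.X n)))
    (hed : ∀ n (x : R.obj (C.X n)), (d 0).app _ (e.app _ x) = 0)
    (hker : ∀ n (x : (T 0).obj (C.X n)), (d 0).app _ x = 0 → ∃ y : R.obj (C.X n), e.app _ y = x)
    (hcol : ∀ p, (((T p).mapHomologicalComplex (ComplexShape.up ℤ)).obj C).Acyclic) :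
    ((R.mapHomologicalComplex (ComplexShape.up ℤ)).obj C).Acyclic := by
  have hcol' : ∀ p i j k, i + 1 = j → j + 1 = k → ∀ x : (T p).obj (C.X j), (T p).map (C.d j k) x = 0 →
      ∃ y : (T p).obj (C.X i), (T p).map (C.d i j) y = x := by
    intro p i j k hi hk
    have h := (HomologicalComplex.exactAt_iff' _ i j k (by simp; omega) (by simp; omega)).mp (hcol p j)
    exact (ShortComplex.ab_exact_iff _).mp h
  intro j
  rw [HomologicalComplex.exactAt_iff' _ (j - 1) j (j + 1) (by simp) (by simp), ShortComplex.ab_exact_iff]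
  intro x hx
  obtain ⟨y, hy, hdy⟩ := exists_preimage_of_columns T d C n₀ hd hrow hcol' (j + 1 - n₀).toNat 0 (j - 1) j
    (by omega) (by omega) (e.app _ x)
    (by
      have hx' : R.map (C.d j (j + 1)) x = 0 := hx
      rw [← NatTrans.naturality_apply e (C.d j (j + 1)) x, hx', map_zero])
    (hed j x)
  obtain ⟨y', rfl⟩ := hker (j - 1) y hdy
  refine ⟨y', he j ?_⟩
  change e.app _ (R.map (C.d (j - 1) j) y') = _
  rw [NatTrans.naturality_apply, hy]

end Groth.ProperFibDescLib
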