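import Groth.Agent.CohTopLib.FibreCoh

/-!
# The counit of inverse and direct image along a subspace
-/

set_option autoImplicit false
set_option linter.style.haveILetI false
set_option backward.isDefEq.respectTransparency false
set_option backward.isDefEq.respectTransparency.types false

universe u
open CategoryTheory CategoryTheory.Limits TopologicalSpace Opposite Topology

namespace Groth.ProperFibDescLib

open CohTopLib.GermFam

variable {Z X : TopCat.{u}} (i : Z ⟶ X)

theorem counit_pullSec (G : QCohLib.AbSh Z) (V : Opens X) (s : G.obj.obj (op ((Opens.map i).obj V))) :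
    ((TopCat.Sheaf.pullbackPushforwardAdjunction AddCommGrpCat.{u} i).counit.app G).hom.app
        (op ((Opens.map i).obj V)) (pullSec i ((CohTop.push i).obj G) V s) = s :=
  ConcreteCategory.congr_hom (congrArg (fun ψ => ψ.hom.app (op V))
    ((TopCat.Sheaf.pullbackPushforwardAdjunction AddCommGrpCat.{u} i).right_triangle_components G)) s

/-- Along a subspace the counit is an isomorphism. -/
theorem isIso_counit (hi : IsInducing i) (G : QCohLib.AbSh Z) :
    IsIso ((TopCat.Sheaf.pullbackPushforwardAdjunction AddCommGrpCat.{u} i).counit.app G) := by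
  let c := (TopCat.Sheaf.pullbackPushforwardAdjunction AddCommGrpCat.{u} i).counit.app G
  have key : ∀ (z : Z) (V : Opens X) (hV : i z ∈ V) (s : G.obj.obj (op ((Opens.map i).obj V))),
      (TopCat.Presheaf.stalkFunctor AddCommGrpCat.{u} (X := Z) z).map c.hom
          (pullStalk i ((CohTop.push i).obj G) z (germ ((CohTop.push i).obj G) V (i z) hV s)) =
        germ G ((Opens.map i).obj V) z hV s := fun z V hV s => by
    refine (congrArg _ (pullStalk_germ i ((CohTop.push i).obj G) z V hV s)).trans ?_
    refine (TopCat.Presheaf.stalkFunctor_map_germ_apply (X := Z) _ z hV c.hom _).trans ?_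
    exact congrArg _ (counit_pullSec i G V s)
  have hb : ∀ z : Z, IsIso ((TopCat.Presheaf.stalkFunctor AddCommGrpCat.{u} (X := Z) z).map c.hom) := by
    intro z
    refine (ConcreteCategory.isIso_iff_bijective _).mpr ⟨(injective_iff_map_eq_zero _).mpr fun a ha => ?_, fun b => ?_⟩
    · obtain ⟨a, rfl⟩ := (bijective_pullStalk i ((CohTop.push i).obj G) z).2 a
      obtain ⟨V, hV, s, rfl⟩ := TopCat.Presheaf.exists_germ_eq (X := X) ((CohTop.push i).obj G).obj a
      have h0 : germ G ((Opens.map i).obj V) z hV s = 0 := (key z V hV s).symm.trans ha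
      obtain ⟨W, hzW, j, j', e⟩ := TopCat.Presheaf.germ_eq (X := Z) G.obj z (show z ∈ (Opens.map i).obj V from hV)
        (show z ∈ (Opens.map i).obj V from hV) s 0
        (h0.trans (map_zero _).symm)
      rw [map_zero] at e
      obtain ⟨O, hO, hOW⟩ := hi.isOpen_iff.mp W.isOpen
      let V' : Opens X := ⟨O, hO⟩ ⊓ V
      have hz : i z ∈ V' := ⟨(Set.ext_iff.mp hOW z).mpr hzW, hV⟩
      have hle : (Opens.map i).obj V' ≤ W := fun y hy => (Set.ext_iff.mp hOW y).mp hy.1
      refine (congrArg (pullStalk i ((CohTop.push i).obj G) z) ?_).trans (map_zero _)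
      refine (germ_rs ((CohTop.push i).obj G) (inf_le_right : V' ≤ V) (i z) hz s).symm.trans ?_
      refine (congrArg (germ ((CohTop.push i).obj G) V' (i z) hz) ?_).trans (map_zero _)
      change G.obj.map ((Opens.map i).map (homOfLE (inf_le_right : V' ≤ V))).op s = 0
      refine Eq.trans ?_ ((congrArg (G.obj.map (homOfLE hle).op) e).trans (map_zero (G.obj.map (homOfLE hle).op).hom))
      exact ConcreteCategory.congr_hom (G.obj.map_comp j.op (homOfLE hle).op) s
    · obtain ⟨W, hzW, s, rfl⟩ := TopCat.Presheaf.exists_germ_eq (X := Z) G.obj b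
      obtain ⟨O, hO, hOW⟩ := hi.isOpen_iff.mp W.isOpen
      let V : Opens X := ⟨O, hO⟩
      have hle : (Opens.map i).obj V ≤ W := fun y hy => (Set.ext_iff.mp hOW y).mp hy
      have hz : i z ∈ V := (Set.ext_iff.mp hOW z).mpr hzW
      refine ⟨pullStalk i ((CohTop.push i).obj G) z
        (germ ((CohTop.push i).obj G) V (i z) hz (G.obj.map (homOfLE hle).op s)), (key z V hz _).trans ?_⟩
      exact germ_rs G hle z hz s
  exact TopCat.Presheaf.isIso_of_stalkFunctor_map_iso
    (F := (((CohTop.push i ⋙ CohTop.pull i).obj G) : TopCat.Sheaf AddCommGrpCat Z))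
    (G := (((𝟭 _ : QCohLib.AbSh Z ⥤ QCohLib.AbSh Z).obj G) : TopCat.Sheaf AddCommGrpCat Z)) c

end Groth.ProperFibDescLib
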