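import Groth.Agent.ProperFibDescLib.Coface
import Groth.Agent.ProperFibDescLib.Chase
import Groth.Agent.ProperFibDescLib.Counit
import Groth.Agent.CohTopLib.ProperBC
import Groth.Agent.CohTopLib.DescExact
import Groth.Agent.DescLib.Crit
import Groth.Agent.SpSeqLib.AcyclicComplex

/-!
# Base change of the direct image to a subspace of the base
-/

set_option autoImplicit false
set_option linter.style.haveILetI false
set_option backward.isDefEq.respectTransparency false
set_option backward.isDefEq.respectTransparency.types false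

universe u
open CategoryTheory CategoryTheory.Limits TopologicalSpace Opposite Simplicial

namespace Groth.ProperFibDescLib

open Groth.DescLib

noncomputable section

theorem quasiIso_iff_cone {A : Type*} [Category A] [Abelian A] {K L : CochainComplex A ℤ} (f : K ⟶ L) :
    QuasiIso f ↔ (CochainComplex.mappingCone f).Acyclic := by
  rw [← HomotopyCategory.quotient_obj_mem_subcategoryAcyclic_iff_acyclic]
  refine Iff.trans ?_ ((HomotopyCategory.subcategoryAcyclic A).trW_iff_of_distinguished _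
    (HomotopyCategory.mappingCone_triangleh_distinguished f))
  rw [← HomotopyCategory.quasiIso_eq_trW_subcategoryAcyclic]
  exact Iff.trans (HomologicalComplex.mem_quasiIso_iff f).symm (HomotopyCategory.quotient_map_mem_quasiIso_iff f).symm

theorem quasiIso_map_iff_cone {A : Type*} [Category A] [Abelian A] {B : Type*} [Category B] [Abelian B]
    (F : A ⥤ B) [F.Additive] {K L : CochainComplex A ℤ} (f : K ⟶ L) :
    QuasiIso ((F.mapHomologicalComplex (ComplexShape.up ℤ)).map f) ↔
      ((F.mapHomologicalComplex (ComplexShape.up ℤ)).obj (CochainComplex.mappingCone f)).Acyclic := by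
  rw [quasiIso_iff_cone]
  exact ⟨fun h n => (h n).of_iso (CochainComplex.mappingCone.mapHomologicalComplexIso f F).symm,
    fun h n => (h n).of_iso (CochainComplex.mappingCone.mapHomologicalComplexIso f F)⟩

section BaseChange

variable {Z Z' : SimplexCategoryᵒᵖ ⥤ TopCat.{u}} {S T : TopCat.{u}}
  (ε : Z ⟶ (Functor.const SimplexCategoryᵒᵖ).obj S) (ε' : Z' ⟶ (Functor.const SimplexCategoryᵒᵖ).obj T)
  (j : T ⟶ S) (γ : Z' ⟶ Z) (hw : γ ≫ ε = ε' ≫ (Functor.const SimplexCategoryᵒᵖ).map j)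

/-- The map of constant diagrams. -/
abbrev constJ : (Functor.const SimplexCategoryᵒᵖ).obj T ⟶ (Functor.const SimplexCategoryᵒᵖ).obj S :=
  (Functor.const SimplexCategoryᵒᵖ).map j

/-- Direct image along a map of diagrams. -/
abbrev pushS : TSh Z' ⥤ TSh Z :=
  (pullF γ).sheafPushforwardContinuous AddCommGrpCat.{u} (totJ Z) (totJ Z')

instance additive_pushS : (pushS γ).Additive := additive_restr _ _ _

/-- Forgetting the index commutes with preimages. -/
def constTau : pullF (constJ j) ⋙ forget SimplexCategoryᵒᵖ T ⟶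
    forget SimplexCategoryᵒᵖ S ⋙ Opens.map j where
  app _ := 𝟙 _
  naturality _ _ _ := Subsingleton.elim _ _

lemma constTau_isIso : IsIso (constTau j) := by
  haveI : ∀ A, IsIso ((constTau j).app A) := fun A => inferInstanceAs (IsIso (𝟙 _))
  exact NatIso.isIso_of_isIso_app _

lemma const_guitartExact :
    (opSquare (forget SimplexCategoryᵒᵖ S) (Opens.map j) (pullF (constJ j))
      (forget SimplexCategoryᵒᵖ T) (constTau j)).GuitartExact := by
  refine zigzag_of_span fun U W g => ?_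
  let X₀ : Tot ((Functor.const SimplexCategoryᵒᵖ).obj S) := ⟨W.base, U⟩
  let b : W ⟶ (pullF (constJ j)).obj X₀ := ⟨𝟙 W.base, fun x hx => g.le hx⟩
  refine ⟨X₀, 𝟙 U, b, Subsingleton.elim _ _, fun X a bX _ => ?_⟩
  let bb : W.base ⟶ X.base := baseOf (B := (pullF (constJ j)).obj X) bX
  refine ⟨⟨W.base, U ⊓ X.U⟩, ⟨𝟙 W.base, fun x hx => ⟨g.le hx, Tot.Hom.mem bX hx⟩⟩, Tot.incl inf_le_left,
    ⟨bb, inf_le_right⟩, Tot.ext' ?_, Tot.ext' ?_, Subsingleton.elim _ _⟩
  · exact Category.id_comp (𝟙 W.base)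
  · exact Category.id_comp bb

include hw in
/-- Direct images commute. -/
def pushComm : pushS γ ⋙ augR ε ≅ augR ε' ⋙ CohTop.push j :=
  haveI := constTau_isIso j
  haveI := const_guitartExact j
  haveI := isIso_nuSquare (J₀ := Opens.grothendieckTopology S) (J₁ := totJ _) (J := Opens.grothendieckTopology T)
    (JG := totJ _) (forget SimplexCategoryᵒᵖ S) (Opens.map j) (pullF (constJ j))
    (forget SimplexCategoryᵒᵖ T) (constTau j)
  let e : pullF ε ⋙ pullF γ ≅ pullF (constJ j) ⋙ pullF ε' := NatIso.ofComponents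
    (fun A => eqToIso (congrArg (Tot.mk (Y := Z') A.base) (Opens.ext (Set.ext fun z => by
      change ε.app A.base (γ.app A.base z) ∈ A.U ↔ j (ε'.app A.base z) ∈ A.U
      have h := ConcreteCategory.congr_hom (congrArg (fun q => q.app A.base) hw) z
      exact iff_of_eq (congrArg (fun y => y ∈ A.U) h)))))
    (fun g => Tot.ext' (by simp [eqToHom_f, pullF]))
  haveI := Functor.isContinuous_comp (pullF (constJ j)) (pullF ε') (totJ _) (totJ _) (totJ Z')
  (Functor.associator _ _ _).symm ≪≫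
    Functor.isoWhiskerRight
      (Functor.sheafPushforwardContinuousComp' e AddCommGrpCat.{u} (totJ _) (totJ Z) (totJ Z') ≪≫
        (Functor.sheafPushforwardContinuousComp' (Iso.refl (pullF (constJ j) ⋙ pullF ε'))
          AddCommGrpCat.{u} (totJ _) (totJ _) (totJ Z')).symm)
      ((forget SimplexCategoryᵒᵖ S).sheafPushforwardCocontinuous AddCommGrpCat.{u} (totJ _)
        (Opens.grothendieckTopology S)) ≪≫
    Functor.associator _ _ _ ≪≫
    Functor.isoWhiskerLeft ((pullF ε').sheafPushforwardContinuous AddCommGrpCat.{u} (totJ _) (totJ Z'))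
      (asIso (nuSquare (J₀ := Opens.grothendieckTopology S) (J₁ := totJ _) (J := Opens.grothendieckTopology T)
        (JG := totJ _) (forget SimplexCategoryᵒᵖ S) (Opens.map j) (pullF (constJ j))
        (forget SimplexCategoryᵒᵖ T) (constTau j)).natTrans).symm ≪≫
    (Functor.associator _ _ _).symm

/-- The composite adjunction through the subdiagram. -/
def adjA : augθ ε ⋙ pullS γ ⊣ augR ε' ⋙ CohTop.push j :=
  ((augAdj ε).comp ((pullF γ).sheafAdjunctionContinuous AddCommGrpCat.{u} (totJ Z) (totJ Z'))).ofNatIsoRight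
    (pushComm ε ε' j γ hw)

/-- The composite adjunction through the subspace. -/
def adjB : CohTop.pull j ⋙ augθ ε' ⊣ augR ε' ⋙ CohTop.push j :=
  (TopCat.Sheaf.pullbackPushforwardAdjunction AddCommGrpCat.{u} j).comp (augAdj ε')

/-- Inverse images commute. -/
def thetaIso : augθ ε ⋙ pullS γ ≅ CohTop.pull j ⋙ augθ ε' :=
  (adjA ε ε' j γ hw).leftAdjointUniq (adjB ε' j)

/-- The two transposes agree after restriction to the subspace. -/
theorem pull_transpose (F : QCohLib.AbSh S) (M : TSh Z) (J : TSh Z') (a : (augθ ε).obj F ⟶ M)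
    (b : (pullS γ).obj M ⟶ J) :
    (CohTop.pull j).map ((augAdj ε).homEquiv F M a) ≫
        ((CohTop.pull j).map ((augR ε).map
            (((pullF γ).sheafAdjunctionContinuous AddCommGrpCat.{u} (totJ Z) (totJ Z')).homEquiv M J b)) ≫
          (CohTop.pull j).map ((pushComm ε ε' j γ hw).hom.app J) ≫
          (TopCat.Sheaf.pullbackPushforwardAdjunction AddCommGrpCat.{u} j).counit.app ((augR ε').obj J)) =
      (augAdj ε').homEquiv ((CohTop.pull j).obj F) J
        ((thetaIso ε ε' j γ hw).inv.app F ≫ (pullS γ).map a ≫ b) := by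
  let γadj := (pullF γ).sheafAdjunctionContinuous AddCommGrpCat.{u} (totJ Z) (totJ Z')
  let g : (augθ ε ⋙ pullS γ).obj F ⟶ J := (pullS γ).map a ≫ b
  have h1 : (adjA ε ε' j γ hw).homEquiv F J g =
      (augAdj ε).homEquiv F M a ≫ (augR ε).map (γadj.homEquiv M J b) ≫ (pushComm ε ε' j γ hw).hom.app J := by
    rw [← Category.assoc, ← (augAdj ε).homEquiv_naturality_right]
    have h0 : (adjA ε ε' j γ hw).homEquiv F J g =
        ((augAdj ε).comp γadj).homEquiv F J g ≫ (pushComm ε ε' j γ hw).hom.app J := by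
      rw [Adjunction.homEquiv_unit, Adjunction.homEquiv_unit]
      change (((augAdj ε).comp γadj).unit.app F ≫ (pushComm ε ε' j γ hw).hom.app _) ≫ _ = _
      rw [Category.assoc, Category.assoc, ← NatTrans.naturality]
    rw [h0, Adjunction.comp_homEquiv]
    change (augAdj ε).homEquiv F _ (γadj.homEquiv _ J g) ≫ _ = _
    rw [γadj.homEquiv_naturality_left]
  have h2 : (adjA ε ε' j γ hw).homEquiv F J g =
      (adjB ε' j).homEquiv F J ((thetaIso ε ε' j γ hw).inv.app F ≫ g) := by
    conv_lhs => rw [← (Iso.app (thetaIso ε ε' j γ hw) F).hom_inv_id_assoc g]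
    rw [Adjunction.homEquiv_naturality_right, (adjB ε' j).homEquiv_unit]
    exact congrArg (fun q => q ≫ _)
      (Adjunction.homEquiv_leftAdjointUniq_hom_app (adjA ε ε' j γ hw) (adjB ε' j) F)
  have h3 := h1.symm.trans h2
  simp only [← Category.assoc, ← Functor.map_comp]
  simp only [Category.assoc]
  rw [h3, adjB, Adjunction.comp_homEquiv]
  refine ((TopCat.Sheaf.pullbackPushforwardAdjunction AddCommGrpCat.{u} j).homEquiv_counit (g := _)).symm.trans ?_
  exact Equiv.symm_apply_apply _ _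

/-- The inclusion of a member and preimages. -/
def levTau (p : ℕ) : Opens.map (γ.app (op ⦋p⦌)) ⋙ totι Z' (op ⦋p⦌) ⟶ totι Z (op ⦋p⦌) ⋙ pullF γ where
  app _ := 𝟙 _
  naturality _ _ _ := (Category.comp_id _).trans ((Category.id_comp _).trans (Tot.ext' rfl)).symm

lemma levTau_isIso (p : ℕ) : IsIso (levTau γ p) := by
  haveI : ∀ A, IsIso ((levTau γ p).app A) := fun A => inferInstanceAs (IsIso (𝟙 _))
  exact NatIso.isIso_of_isIso_app _

lemma lev_guitartExact (p : ℕ) :
    (opSquare (totι Z (op ⦋p⦌)) (pullF γ) (Opens.map (γ.app (op ⦋p⦌)))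
      (totι Z' (op ⦋p⦌)) (levTau γ p)).GuitartExact := by
  refine zigzag_of_span fun U W g => ?_
  let f : op ⦋p⦌ ⟶ U.base := baseOf (A := (totι Z' (op ⦋p⦌)).obj W) (B := (pullF γ).obj U) g
  let X₀ : Opens (Z.obj (op ⦋p⦌)) := (Opens.map (Z.map f)).obj U.U
  have hb₀ : W ≤ (Opens.map (γ.app (op ⦋p⦌))).obj X₀ := fun x hx =>
    (congrArg (fun y => y ∈ U.U) (ConcreteCategory.congr_hom (γ.naturality f) x)).mp (Tot.Hom.mem g hx)
  refine ⟨X₀, ⟨f, le_rfl⟩, homOfLE hb₀, Tot.ext' ?_, fun X a b hc => ?_⟩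
  · change 𝟙 (op ⦋p⦌) ≫ 𝟙 _ ≫ f = f
    simp
  have hbase : baseOf (A := (totι Z (op ⦋p⦌)).obj X) a = f := by
    have := congrArg Tot.Hom.f hc
    change 𝟙 (op ⦋p⦌) ≫ 𝟙 _ ≫ baseOf (A := (totι Z (op ⦋p⦌)).obj X) a = f at this
    simpa using this
  refine ⟨X₀ ⊓ X, homOfLE fun x hx => ⟨hb₀ hx, b.le hx⟩, homOfLE inf_le_left, homOfLE inf_le_right,
    Subsingleton.elim _ _, Subsingleton.elim _ _, Tot.ext' ?_⟩
  change 𝟙 _ ≫ f = 𝟙 _ ≫ baseOf (A := (totι Z (op ⦋p⦌)).obj X) a
  rw [hbase]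
  rfl

/-- The restriction of a transposed map to a member. -/
theorem lev_transpose (p : ℕ) (M : TSh Z) (J : TSh Z') (b : (pullS γ).obj M ⟶ J) :
    (CohTop.pull (γ.app (op ⦋p⦌))).map ((lev Z p).map
        (((pullF γ).sheafAdjunctionContinuous AddCommGrpCat.{u} (totJ Z) (totJ Z')).homEquiv M J b)) ≫
        (TopCat.Sheaf.pullbackPushforwardAdjunction AddCommGrpCat.{u} (γ.app (op ⦋p⦌))).counit.app
          ((lev Z' p).obj J) =
      (sigmaSquare (J₀ := totJ Z) (J₁ := Opens.grothendieckTopology (Z.obj (op ⦋p⦌))) (J := totJ Z')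
        (JG := Opens.grothendieckTopology (Z'.obj (op ⦋p⦌))) (totι Z (op ⦋p⦌)) (pullF γ)
        (Opens.map (γ.app (op ⦋p⦌))) (totι Z' (op ⦋p⦌)) (levTau γ p)).natTrans.app M ≫ (lev Z' p).map b := by
  let adje := (pullF γ).sheafAdjunctionContinuous AddCommGrpCat.{u} (totJ Z) (totJ Z')
  let adjE := TopCat.Sheaf.pullbackPushforwardAdjunction AddCommGrpCat.{u} (γ.app (op ⦋p⦌))
  let σ := (sigmaSquare (J₀ := totJ Z) (J₁ := Opens.grothendieckTopology (Z.obj (op ⦋p⦌))) (J := totJ Z')
        (JG := Opens.grothendieckTopology (Z'.obj (op ⦋p⦌))) (totι Z (op ⦋p⦌)) (pullF γ)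
        (Opens.map (γ.app (op ⦋p⦌))) (totι Z' (op ⦋p⦌)) (levTau γ p))
  refine (adjE.homEquiv_counit (g := (show (lev Z p).obj M ⟶ (TopCat.Sheaf.pushforward AddCommGrpCat.{u} (γ.app (op ⦋p⦌))).obj
      ((lev Z' p).obj J) from (lev Z p).map (adje.homEquiv M J b)))).symm.trans
    ((Equiv.symm_apply_eq _).mpr ?_)
  rw [adjE.homEquiv_naturality_right, adjE.homEquiv_unit, adje.homEquiv_unit, Functor.map_comp]
  have hu := unit_mateEquiv adje adjE σ M
  have hm : mateEquiv adje adjE σ = TwoSquare.mk _ _ _ _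
      (restrSquare (J₀ := totJ Z) (J₁ := Opens.grothendieckTopology (Z.obj (op ⦋p⦌)))
        (J := totJ Z') (JG := Opens.grothendieckTopology (Z'.obj (op ⦋p⦌))) (totι Z (op ⦋p⦌)) (pullF γ)
        (Opens.map (γ.app (op ⦋p⦌))) (totι Z' (op ⦋p⦌)) (levTau γ p)).natTrans :=
    mate_sigmaSquare (totι Z (op ⦋p⦌)) (pullF γ) (Opens.map (γ.app (op ⦋p⦌))) (totι Z' (op ⦋p⦌)) (levTau γ p)
  rw [hm] at hu
  have h1 : ∀ N : TSh Z', (restrSquare (J₀ := totJ Z) (J₁ := Opens.grothendieckTopology (Z.obj (op ⦋p⦌)))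
      (J := totJ Z') (JG := Opens.grothendieckTopology (Z'.obj (op ⦋p⦌))) (totι Z (op ⦋p⦌)) (pullF γ)
      (Opens.map (γ.app (op ⦋p⦌))) (totι Z' (op ⦋p⦌)) (levTau γ p)).natTrans.app N = 𝟙 _ := fun N => by
    refine Sheaf.hom_ext (NatTrans.ext (funext fun V => ?_))
    exact N.obj.map_id _
  erw [h1] at hu
  change (lev Z p).map (adje.unit.app M) ≫ _ = (adjE.unit.app _ ≫ (CohTop.push _).map (σ.natTrans.app M)) ≫ _
  refine Eq.trans ?_ (congrArg (fun q => q ≫ (CohTop.push (γ.app (op ⦋p⦌))).map ((lev Z' p).map b)) ((Category.comp_id _).symm.trans hu))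
  rfl

end BaseChange

end

end Groth.ProperFibDescLib
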