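import Groth.Agent.ProperFibDescLib.Free
import Groth.Agent.CohTopLib.FibreCoh

/-!
# The direct image of a sheaf on a simplicial space as the kernel of the first coface map
-/

set_option autoImplicit false
set_option linter.style.haveILetI false
set_option backward.isDefEq.respectTransparency false
set_option backward.isDefEq.respectTransparency.types false

universe u
open CategoryTheory CategoryTheory.Limits TopologicalSpace Opposite Simplicial

namespace Groth.ProperFibDescLib

open Groth.DescLib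

noncomputable section

variable {Z : SimplexCategoryᵒᵖ ⥤ TopCat.{u}} {S : TopCat.{u}}
  (ε : Z ⟶ (Functor.const SimplexCategoryᵒᵖ).obj S)

/-- The structure map of a member. -/
abbrev epi (p : ℕ) : Z.obj (op ⦋p⦌) ⟶ S := ε.app (op ⦋p⦌)

/-- Restriction to a member. -/
abbrev lev (Z : SimplexCategoryᵒᵖ ⥤ TopCat.{u}) (p : ℕ) : TSh Z ⥤ QCohLib.AbSh (Z.obj (op ⦋p⦌)) :=
  (totι Z (op ⦋p⦌)).sheafPushforwardContinuous AddCommGrpCat.{u} _ _

instance additive_lev (p : ℕ) : (lev Z p).Additive := additive_restr _ _ _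

/-- The terms of the coface complex. -/
abbrev cofT (p : ℕ) : TSh Z ⥤ QCohLib.AbSh S := lev Z p ⋙ CohTop.push (epi ε p)

instance additive_push {X Y : TopCat.{u}} (f : X ⟶ Y) : (CohTop.push f).Additive :=
  haveI : (TopCat.Sheaf.pullback AddCommGrpCat.{u} f).Additive := CohTopLib.FibreCoh.additive_pull f
  (TopCat.Sheaf.pullbackPushforwardAdjunction AddCommGrpCat.{u} f).right_adjoint_additive

instance additive_cofT (p : ℕ) : (cofT ε p).Additive := inferInstanceAs (lev Z p ⋙ CohTop.push (epi ε p)).Additive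

theorem preQ_δ_natural (p : ℕ) (i : Fin (p + 2)) {W W' : Opens S} (h : W ≤ W') :
    (preQ ε W).map (SimplexCategory.δ i).op ≫ (totι Z (op ⦋p⦌)).map ((Opens.map (epi ε p)).map (homOfLE h)) =
      (totι Z (op ⦋p + 1⦌)).map ((Opens.map (epi ε (p + 1))).map (homOfLE h)) ≫
        (preQ ε W').map (SimplexCategory.δ i).op :=
  Tot.ext' ((Category.comp_id _).trans (Category.id_comp _).symm)

/-- The coface maps. -/
def cofD (p : ℕ) : cofT ε p ⟶ cofT ε (p + 1) where
  app M := ⟨{
    app := fun W => cofaceSec ε W.unop M.obj p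
    naturality := fun W W' j => by
      refine AddCommGrpCat.hom_ext (AddMonoidHom.ext fun x => ?_)
      change cofaceSec ε W'.unop M.obj p
          (M.obj.map ((totι Z (op ⦋p⦌)).map ((Opens.map (epi ε p)).map j.unop)).op x) =
        M.obj.map ((totι Z (op ⦋p + 1⦌)).map ((Opens.map (epi ε (p + 1))).map j.unop)).op
          (cofaceSec ε W.unop M.obj p x)
      simp only [cofaceSec, sum_apply, map_sum]
      refine Finset.sum_congr rfl fun i _ => ?_
      change (-1 : ℤ) ^ (i : ℕ) • M.obj.map _ (M.obj.map _ x) = M.obj.map _ ((-1 : ℤ) ^ (i : ℕ) • M.obj.map _ x)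
      rw [map_zsmul, ← ConcreteCategory.comp_apply, ← ConcreteCategory.comp_apply, ← Functor.map_comp,
        ← Functor.map_comp, ← op_comp, ← op_comp]
      rw [show j.unop = homOfLE j.unop.le from Subsingleton.elim _ _, preQ_δ_natural] }⟩
  naturality M N φ := by
    refine Sheaf.hom_ext (NatTrans.ext (funext fun W => AddCommGrpCat.hom_ext (AddMonoidHom.ext fun x => ?_)))
    change cofaceSec ε W.unop N.obj p (φ.hom.app _ x) = φ.hom.app _ (cofaceSec ε W.unop M.obj p x)
    simp only [cofaceSec, sum_apply, map_sum]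
    refine Finset.sum_congr rfl fun i _ => ?_
    change (-1 : ℤ) ^ (i : ℕ) • N.obj.map _ (φ.hom.app _ x) = φ.hom.app _ ((-1 : ℤ) ^ (i : ℕ) • M.obj.map _ x)
    rw [map_zsmul, NatTrans.naturality_apply]

/-- The constant extension of the pushforward. -/
abbrev pullN (M : TSh Z) : TSh ((Functor.const SimplexCategoryᵒᵖ).obj S) :=
  ((pullF ε).sheafPushforwardContinuous AddCommGrpCat.{u} (totJ _) (totJ Z)).obj M

/-- The evaluation at a member. -/
abbrev evMem (M : TSh Z) (A : Tot ((Functor.const SimplexCategoryᵒᵖ).obj S)) :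
    ((augR ε).obj M).obj.obj (op A.U) ⟶ (pullN ε M).obj.obj (op A) :=
  (((forget SimplexCategoryᵒᵖ S).sheafAdjunctionCocontinuous AddCommGrpCat.{u} (totJ _)
    (Opens.grothendieckTopology S)).counit.app (pullN ε M)).hom.app (op A)

theorem evMem_natural (M : TSh Z) {A A' : Tot ((Functor.const SimplexCategoryᵒᵖ).obj S)} (g : A' ⟶ A)
    (x : ((augR ε).obj M).obj.obj (op A.U)) :
    evMem ε M A' (((augR ε).obj M).obj.map ((forget SimplexCategoryᵒᵖ S).map g).op x) =
      (pullN ε M).obj.map g.op (evMem ε M A x) :=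
  NatTrans.naturality_apply (((forget SimplexCategoryᵒᵖ S).sheafAdjunctionCocontinuous AddCommGrpCat.{u}
    (totJ _) (Opens.grothendieckTopology S)).counit.app (pullN ε M)).hom g.op x

/-- The direct image maps to the first term. -/
def cofE : augR ε ⟶ cofT ε 0 where
  app M := ⟨{
    app := fun W => evMem ε M ⟨op ⦋0⦌, W.unop⟩
    naturality := fun W W' j => by
      refine AddCommGrpCat.hom_ext (AddMonoidHom.ext fun x => ?_)
      exact evMem_natural ε M (A := ⟨op ⦋0⦌, W.unop⟩) (A' := ⟨op ⦋0⦌, W'.unop⟩)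
        (Tot.incl (Y := (Functor.const SimplexCategoryᵒᵖ).obj S) (i := op ⦋0⦌) j.unop.le) x }⟩
  naturality M N φ := by
    refine Sheaf.hom_ext (NatTrans.ext (funext fun W => AddCommGrpCat.hom_ext (AddMonoidHom.ext fun x => ?_)))
    exact ConcreteCategory.congr_hom (congrArg (fun ψ => ψ.hom.app (op (⟨op ⦋0⦌, W.unop⟩ : Tot _)))
      (((forget SimplexCategoryᵒᵖ S).sheafAdjunctionCocontinuous AddCommGrpCat.{u} (totJ _)
        (Opens.grothendieckTopology S)).counit.naturality
          (((pullF ε).sheafPushforwardContinuous AddCommGrpCat.{u} (totJ _) (totJ Z)).map φ))) x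

/-- A morphism of the constant diagram from an index morphism. -/
def mkC {a b : SimplexCategoryᵒᵖ} {V W : Opens S} (f : a ⟶ b) (h : V ≤ W) :
    (⟨a, V⟩ : Tot ((Functor.const SimplexCategoryᵒᵖ).obj S)) ⟶ ⟨b, W⟩ :=
  ⟨f, fun _ hx => h hx⟩

/-- The vertices. -/
abbrev vert {q : ℕ} (a : Fin (q + 1)) : op ⦋q⦌ ⟶ op ⦋0⦌ := (SimplexCategory.const ⦋0⦌ ⦋q⦌ a).op

theorem cofaceSec_zero_apply (M : TSh Z) (W : Opens S) (x : M.obj.obj (op ((preQ ε W).obj (op ⦋0⦌)))) :
    cofaceSec ε W M.obj 0 x =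
      (pullN ε M).obj.map (mkC (vert (1 : Fin 2)) (le_refl W)).op x -
        (pullN ε M).obj.map (mkC (vert (0 : Fin 2)) (le_refl W)).op x := by
  rw [cofaceSec, sum_apply, Fin.sum_univ_two]
  change ((-1 : ℤ) ^ 0) • M.obj.map _ x + ((-1 : ℤ) ^ 1) • M.obj.map _ x = M.obj.map _ x - M.obj.map _ x
  rw [pow_zero, one_zsmul, pow_one, neg_one_zsmul, ← sub_eq_add_neg]
  rw [SimplexCategory.δ_zero_eq_const, SimplexCategory.δ_one_eq_const]
  rfl

/-- The first coface map kills the direct image. -/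
theorem cofD_cofE (M : TSh Z) (W : Opens S) (x : ((augR ε).obj M).obj.obj (op W)) :
    cofaceSec ε W M.obj 0 (evMem ε M ⟨op ⦋0⦌, W⟩ x) = 0 := by
  rw [cofaceSec_zero_apply, sub_eq_zero]
  exact (evMem_natural ε M (mkC (vert (1 : Fin 2)) (le_refl W)) x).symm.trans
    (evMem_natural ε M (mkC (vert (0 : Fin 2)) (le_refl W)) x)

/-- The limit description of the direct image. -/
def limR (M : TSh Z) (W : Opens S) :=
  (forget SimplexCategoryᵒᵖ S).op.isPointwiseRightKanExtensionRanCounit (pullN ε M).obj (op W)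

theorem evMem_eq (M : TSh Z) (A : Tot ((Functor.const SimplexCategoryᵒᵖ).obj S))
    (x : ((augR ε).obj M).obj.obj (op A.U)) :
    evMem ε M A x = ((forget SimplexCategoryᵒᵖ S).op.ranCounit.app (pullN ε M).obj).app (op A) x := by
  have h := congrArg (fun q : _ ⟶ (pullN ε M).obj => q.app (op A) x)
    (Functor.sheafAdjunctionCocontinuous_counit_app_hom (forget SimplexCategoryᵒᵖ S) AddCommGrpCat.{u}
      (totJ _) (Opens.grothendieckTopology S) (pullN ε M))
  simp only [Functor.ranAdjunction_counit] at h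
  exact h

theorem injective_cofE (M : TSh Z) (W : Opens S) :
    Function.Injective (evMem ε M ⟨op ⦋0⦌, W⟩) := by
  intro x y hxy
  refine Concrete.isLimit_ext _ (limR ε M W) x y fun X => ?_
  obtain ⟨⟨⟨q, V⟩⟩, h, rfl⟩ := X.mk_surjective
  obtain ⟨⟨n⟩⟩ := q
  let g : (⟨op ⦋n⦌, V⟩ : Tot ((Functor.const SimplexCategoryᵒᵖ).obj S)) ⟶ ⟨op ⦋0⦌, W⟩ :=
    mkC (vert (0 : Fin (n + 1))) h.unop.le
  have key : ∀ z : ((augR ε).obj M).obj.obj (op W),
      ((forget SimplexCategoryᵒᵖ S).op.ranCounit.app (pullN ε M).obj).app (op ⟨op ⦋n⦌, V⟩)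
        (((augR ε).obj M).obj.map h z) = (pullN ε M).obj.map g.op (evMem ε M ⟨op ⦋0⦌, W⟩ z) := fun z => by
    rw [← evMem_eq, ← evMem_natural ε M g z]
    rfl
  exact (key x).trans ((congrArg _ hxy).trans (key y).symm)

theorem vertex_indep (M : TSh Z) (W : Opens S) (x : M.obj.obj (op ((preQ ε W).obj (op ⦋0⦌))))
    (hx : cofaceSec ε W M.obj 0 x = 0) {q : ℕ} {V : Opens S} (hV : V ≤ W) (a b : Fin (q + 1)) :
    (pullN ε M).obj.map (mkC (vert a) hV).op x = (pullN ε M).obj.map (mkC (vert b) hV).op x := by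
  rw [cofaceSec_zero_apply, sub_eq_zero] at hx
  suffices h : ∀ a b : Fin (q + 1), a ≤ b →
      (pullN ε M).obj.map (mkC (vert b) hV).op x = (pullN ε M).obj.map (mkC (vert a) hV).op x from
    (le_total a b).elim (fun h' => (h a b h').symm) (fun h' => h b a h')
  intro a b hab
  let e : op ⦋q⦌ ⟶ op ⦋1⦌ := (SimplexCategory.mkOfLe a b hab).op
  have hb : mkC (vert b) hV = mkC e hV ≫ mkC (vert (1 : Fin 2)) (le_refl W) := by
    refine Tot.ext' (congrArg Quiver.Hom.op ?_)
    change SimplexCategory.const ⦋0⦌ ⦋q⦌ b = SimplexCategory.const ⦋0⦌ ⦋1⦌ 1 ≫ SimplexCategory.mkOfLe a b hab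
    rw [SimplexCategory.const_comp]
    congr 1
  have ha : mkC (vert a) hV = mkC e hV ≫ mkC (vert (0 : Fin 2)) (le_refl W) := by
    refine Tot.ext' (congrArg Quiver.Hom.op ?_)
    change SimplexCategory.const ⦋0⦌ ⦋q⦌ a = SimplexCategory.const ⦋0⦌ ⦋1⦌ 0 ≫ SimplexCategory.mkOfLe a b hab
    rw [SimplexCategory.const_comp]
    congr 1
  rw [hb, ha, op_comp, op_comp, Functor.map_comp, Functor.map_comp, ConcreteCategory.comp_apply,
    ConcreteCategory.comp_apply, hx]

theorem exists_cofE (M : TSh Z) (W : Opens S) (x : M.obj.obj (op ((preQ ε W).obj (op ⦋0⦌))))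
    (hx : cofaceSec ε W M.obj 0 x = 0) : ∃ y, evMem ε M ⟨op ⦋0⦌, W⟩ y = x := by
  let K : AddSubgroup (M.obj.obj (op ((preQ ε W).obj (op ⦋0⦌)))) := (cofaceSec ε W M.obj 0).hom.ker
  let gX : ∀ X : StructuredArrow (op W) (forget SimplexCategoryᵒᵖ S).op, X.right.unop ⟶
      (⟨op ⦋0⦌, W⟩ : Tot ((Functor.const SimplexCategoryᵒᵖ).obj S)) := fun X =>
    mkC (vert (0 : Fin (X.right.unop.base.unop.len + 1))) X.hom.unop.le
  let c : Cone (StructuredArrow.proj (op W) (forget SimplexCategoryᵒᵖ S).op ⋙ (pullN ε M).obj) :=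
    { pt := AddCommGrpCat.of K
      π :=
        { app := fun X => AddCommGrpCat.ofHom (((pullN ε M).obj.map (gX X).op).hom.comp K.subtype)
          naturality := fun X Y f => by
            refine AddCommGrpCat.hom_ext (AddMonoidHom.ext fun z => ?_)
            let b : Y.right.unop ⟶ X.right.unop := f.right.unop
            have hb : b ≫ gX X = mkC (vert ((baseOf b).unop.toOrderHom 0)) Y.hom.unop.le := by
              refine Tot.ext' ?_
              exact congrArg Quiver.Hom.op (SimplexCategory.const_comp _ _ _)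
            change (pullN ε M).obj.map (gX Y).op z.1 =
              (pullN ε M).obj.map f.right ((pullN ε M).obj.map (gX X).op z.1)
            rw [← ConcreteCategory.comp_apply, ← Functor.map_comp]
            refine (vertex_indep ε M W z.1 z.2 Y.hom.unop.le _ ((baseOf b).unop.toOrderHom 0)).trans ?_
            rw [← hb]
            rfl } }
  let X₀ : StructuredArrow (op W) (forget SimplexCategoryᵒᵖ S).op :=
    StructuredArrow.mk (Y := op (⟨op ⦋0⦌, W⟩ : Tot ((Functor.const SimplexCategoryᵒᵖ).obj S))) (𝟙 (op W))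
  refine ⟨(limR ε M W).lift c ⟨x, hx⟩, ?_⟩
  have h := ConcreteCategory.congr_hom ((limR ε M W).fac c X₀) (⟨x, hx⟩ : K)
  have h2 : gX X₀ = 𝟙 _ := by
    refine Tot.ext' ?_
    exact congrArg Quiver.Hom.op (SimplexCategory.eq_const_of_zero (𝟙 ⦋0⦌)).symm
  rw [evMem_eq]
  refine Eq.trans ?_ (h.trans ?_)
  · change _ = ((forget SimplexCategoryᵒᵖ S).op.ranCounit.app (pullN ε M).obj).app
      (op (⟨op ⦋0⦌, W⟩ : Tot ((Functor.const SimplexCategoryᵒᵖ).obj S)))
        (((augR ε).obj M).obj.map (𝟙 (op W)) _)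
    rw [((augR ε).obj M).obj.map_id]
    rfl
  · change (pullN ε M).obj.map (gX X₀).op x = x
    rw [h2]
    exact ConcreteCategory.congr_hom ((pullN ε M).obj.map_id _) x

theorem freeMap_injective {α β : Type u} {f : α → β} (hf : Function.Injective f) :
    Function.Injective (FreeAbelianGroup.map f) := by
  cases isEmpty_or_nonempty α
  · exact Function.injective_of_subsingleton _
  · refine Function.LeftInverse.injective (g := FreeAbelianGroup.map (Function.invFun f)) fun x => ?_
    rw [← FreeAbelianGroup.map_comp_apply, Function.invFun_comp hf, FreeAbelianGroup.map_id_apply]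

/-- The members of an injective sheaf are flasque. -/
theorem isFlasque_lev (I : TSh Z) [Injective I] (p : ℕ) :
    TopCat.Sheaf.IsFlasque ((lev Z p).obj I : TopCat.Sheaf AddCommGrpCat (Z.obj (op ⦋p⦌))) := by
  refine ⟨fun {U V} j => (AddCommGrpCat.epi_iff_surjective _).mpr fun x => ?_⟩
  haveI := injective_obj I
  let k : (totι Z (op ⦋p⦌)).obj V.unop ⟶ (totι Z (op ⦋p⦌)).obj U.unop := (totι Z (op ⦋p⦌)).map j.unop
  haveI : Mono k := ⟨fun {A} a b h => Tot.ext' ((Category.comp_id _).symm.trans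
    ((congrArg Tot.Hom.f h).trans (Category.comp_id _)))⟩
  haveI : ∀ A, Mono ((freeP.map k).app A) := fun A => by
    rw [AddCommGrpCat.mono_iff_injective]
    exact freeMap_injective fun a b h => (cancel_mono k).1 h
  haveI : Mono (freeP.map k) := NatTrans.mono_of_mono_app _
  let φ : freeP.obj ((totι Z (op ⦋p⦌)).obj V.unop) ⟶ I.obj := secHom I.obj x
  refine ⟨(Injective.factorThru φ (freeP.map k)).app _ (gen _), ?_⟩
  have h := congrArg (fun ψ : _ ⟶ I.obj => ψ.app _ (gen ((totι Z (op ⦋p⦌)).obj V.unop)))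
    (Injective.comp_factorThru φ (freeP.map k))
  refine Eq.trans ?_ (h.trans (secHom_gen I.obj x))
  change I.obj.map k.op _ = (Injective.factorThru φ (freeP.map k)).app _
    (FreeAbelianGroup.map (fun g => g ≫ k) (FreeAbelianGroup.of (𝟙 _)))
  rw [FreeAbelianGroup.map_of_apply, Category.id_comp]
  exact (hom_gen _ k).symm

end

end Groth.ProperFibDescLib
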