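import Groth.Agent.DescLib.Aug
import Mathlib.AlgebraicTopology.AlternatingFaceMapComplex
import Mathlib.Algebra.Category.Grp.Adjunctions
import Mathlib.Algebra.Homology.ShortComplex.Ab
import Mathlib.CategoryTheory.Abelian.FunctorCategory
import Mathlib.Topology.Sheaves.Flasque

/-!
# Free presheaves on the total site of a simplicial space over a space
-/

set_option autoImplicit false
set_option linter.style.haveILetI false
set_option backward.isDefEq.respectTransparency false
set_option backward.isDefEq.respectTransparency.types false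

universe u
open CategoryTheory CategoryTheory.Limits TopologicalSpace Opposite Simplicial

namespace Groth.ProperFibDescLib

open Groth.DescLib

noncomputable section

theorem sum_apply {ι : Type*} [Fintype ι] {M N : AddCommGrpCat.{u}} (f : ι → (M ⟶ N)) (x : M) :
    (∑ i, f i) x = ∑ i, f i x :=
  map_sum (AddMonoidHom.mk' (fun g : M ⟶ N => g x) fun _ _ => rfl) f _

section Pre

variable {C : Type u} [SmallCategory C]

/-- The free presheaf on an object. -/
abbrev freeP : C ⥤ (Cᵒᵖ ⥤ AddCommGrpCat.{u}) :=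
  yoneda ⋙ (Functor.whiskeringRight _ _ _).obj AddCommGrpCat.free

/-- A section as a map out of a free presheaf. -/
def secHom (P : Cᵒᵖ ⥤ AddCommGrpCat.{u}) {X : C} (x : P.obj (op X)) : freeP.obj X ⟶ P where
  app A := AddCommGrpCat.ofHom (FreeAbelianGroup.lift fun g : A.unop ⟶ X => P.map g.op x)
  naturality A B a := by
    apply AddCommGrpCat.hom_ext
    refine FreeAbelianGroup.lift_ext _ _ fun g => ?_
    change (FreeAbelianGroup.lift fun g : B.unop ⟶ X => P.map g.op x)
        (FreeAbelianGroup.map (fun g : A.unop ⟶ X => a.unop ≫ g) (FreeAbelianGroup.of g)) =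
      P.map a ((FreeAbelianGroup.lift fun g : A.unop ⟶ X => P.map g.op x) (FreeAbelianGroup.of g))
    rw [FreeAbelianGroup.map_of_apply, FreeAbelianGroup.lift_apply_of, FreeAbelianGroup.lift_apply_of,
      ← ConcreteCategory.comp_apply, ← Functor.map_comp]
    rfl

/-- The generator. -/
abbrev gen (X : C) : (freeP.obj X).obj (op X) := FreeAbelianGroup.of (𝟙 X)

theorem secHom_gen (P : Cᵒᵖ ⥤ AddCommGrpCat.{u}) {X : C} (x : P.obj (op X)) :
    (secHom P x).app (op X) (gen X) = x := by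
  change (FreeAbelianGroup.lift fun g : X ⟶ X => P.map g.op x) (FreeAbelianGroup.of (𝟙 X)) = x
  rw [FreeAbelianGroup.lift_apply_of, op_id, P.map_id]
  rfl

theorem hom_gen {P : Cᵒᵖ ⥤ AddCommGrpCat.{u}} {X : C} (φ : freeP.obj X ⟶ P) {A : C} (g : A ⟶ X) :
    φ.app (op A) (FreeAbelianGroup.of g) = P.map g.op (φ.app (op X) (gen X)) := by
  rw [← NatTrans.naturality_apply φ g.op (gen X)]
  refine congrArg (φ.app (op A)) ?_
  change _ = FreeAbelianGroup.map (fun h : X ⟶ X => g ≫ h) (FreeAbelianGroup.of (𝟙 X))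
  rw [FreeAbelianGroup.map_of_apply, Category.comp_id]

theorem hom_ext_gen {P : Cᵒᵖ ⥤ AddCommGrpCat.{u}} {X : C} (φ ψ : freeP.obj X ⟶ P)
    (h : φ.app (op X) (gen X) = ψ.app (op X) (gen X)) : φ = ψ := by
  refine NatTrans.ext (funext fun A => AddCommGrpCat.hom_ext (FreeAbelianGroup.lift_ext _ _ fun g => ?_))
  exact (hom_gen φ g).trans ((congrArg (P.map g.op) h).trans (hom_gen ψ g).symm)

theorem exact_of_evaluation (S : ShortComplex (Cᵒᵖ ⥤ AddCommGrpCat.{u}))
    (h : ∀ A, (S.map ((evaluation Cᵒᵖ AddCommGrpCat.{u}).obj A)).Exact) : S.Exact := by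
  rw [ShortComplex.exact_iff_isZero_homology, Functor.isZero_iff]
  intro A
  exact ((ShortComplex.exact_iff_isZero_homology _).mp (h A)).of_iso
    (S.mapHomologyIso ((evaluation Cᵒᵖ AddCommGrpCat.{u}).obj A)).symm

end Pre

section Simpl

variable {Z : SimplexCategoryᵒᵖ ⥤ TopCat.{u}} {S : TopCat.{u}}
  (ε : Z ⟶ (Functor.const SimplexCategoryᵒᵖ).obj S) (W : Opens S)

/-- The preimages of an open subset of the base. -/
def preQ : SimplexCategoryᵒᵖ ⥤ Tot Z where
  obj n := (pullF ε).obj (⟨n, W⟩ : Tot ((Functor.const SimplexCategoryᵒᵖ).obj S))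
  map {n m} f := (pullF ε).map (⟨f, fun _ hx => hx⟩ :
    (⟨n, W⟩ : Tot ((Functor.const SimplexCategoryᵒᵖ).obj S)) ⟶ ⟨m, W⟩)
  map_id _ := Tot.ext' rfl
  map_comp _ _ := Tot.ext' rfl

variable {W} in
theorem preQ_map_f {n m : SimplexCategoryᵒᵖ} (f : n ⟶ m) : Tot.Hom.f ((preQ ε W).map f) = f := rfl

/-- The free simplicial presheaf. -/
def freeS : SimplicialObject ((Tot Z)ᵒᵖ ⥤ AddCommGrpCat.{u}) := preQ ε W ⋙ freeP

variable {W}

/-- The alternating sum of the faces of a generator. -/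
theorem objD_gen (p : ℕ) (A : Tot Z) (g : A ⟶ (preQ ε W).obj (op ⦋p + 1⦌)) :
    (AlgebraicTopology.AlternatingFaceMapComplex.objD (freeS ε W) p).app (op A) (FreeAbelianGroup.of g) =
      ∑ i : Fin (p + 2), (-1 : ℤ) ^ (i : ℕ) •
        FreeAbelianGroup.of (g ≫ (preQ ε W).map (SimplexCategory.δ i).op) := by
  simp only [AlgebraicTopology.AlternatingFaceMapComplex.objD, NatTrans.app_sum, NatTrans.app_zsmul]
  rw [sum_apply]
  refine Finset.sum_congr rfl fun i _ => ?_
  rfl

/-- Adjoining the least vertex. -/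
def coneVertex {p q : ℕ} (f : ⦋p⦌ ⟶ ⦋q⦌) : ⦋p + 1⦌ ⟶ ⦋q⦌ :=
  SimplexCategory.Hom.mk
    { toFun := Fin.cases 0 (fun i => f.toOrderHom i)
      monotone' := by
        intro a b h
        induction a using Fin.cases with
        | zero => simp
        | succ a =>
          induction b using Fin.cases with
          | zero => simp at h
          | succ b => simpa using f.toOrderHom.monotone (by simpa using h) }

theorem δ_zero_coneVertex {p q : ℕ} (f : ⦋p⦌ ⟶ ⦋q⦌) : SimplexCategory.δ 0 ≫ coneVertex f = f := by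
  apply SimplexCategory.Hom.ext
  refine OrderHom.ext _ _ (funext fun a => ?_)
  simp [coneVertex, SimplexCategory.δ]

theorem δ_succ_coneVertex {p q : ℕ} (f : ⦋p + 1⦌ ⟶ ⦋q⦌) (i : Fin (p + 2)) :
    SimplexCategory.δ i.succ ≫ coneVertex f = coneVertex (SimplexCategory.δ i ≫ f) := by
  apply SimplexCategory.Hom.ext
  refine OrderHom.ext _ _ (funext fun a => ?_)
  induction a using Fin.cases <;> simp [coneVertex, SimplexCategory.δ]

theorem mem_preW {A : Tot Z} {n : SimplexCategoryᵒᵖ} (g : A ⟶ (preQ ε W).obj n) {x : Z.obj A.base}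
    (hx : x ∈ A.U) : ε.app A.base x ∈ W := by
  have h : ε.app n (Z.map (Tot.Hom.f g) x) ∈ W := Tot.Hom.mem g hx
  have e := ConcreteCategory.congr_hom (ε.naturality (baseOf g)) x
  exact (congrArg (fun y => y ∈ W) e).mp h

/-- A morphism to a preimage is a morphism of indices. -/
def mkHom {A : Tot Z} (h : ∀ x ∈ A.U, ε.app A.base x ∈ W) {n : SimplexCategoryᵒᵖ} (f : A.base ⟶ n) :
    A ⟶ (preQ ε W).obj n :=
  ⟨f, fun x hx => by
    have e := ConcreteCategory.congr_hom (ε.naturality f) x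
    exact (congrArg (fun y => y ∈ W) e).mpr (h x hx)⟩

/-- The differential of the free presheaves, on generators. -/
abbrev dFree (A : Tot Z) (p : ℕ) : FreeAbelianGroup (A ⟶ (preQ ε W).obj (op ⦋p + 1⦌)) →+
    FreeAbelianGroup (A ⟶ (preQ ε W).obj (op ⦋p⦌)) :=
  ((AlgebraicTopology.AlternatingFaceMapComplex.objD (freeS ε W) p).app (op A)).hom

/-- The contracting homotopy. -/
def coneMap (A : Tot Z) (p : ℕ) (g : A ⟶ (preQ ε W).obj (op ⦋p⦌)) :
    A ⟶ (preQ ε W).obj (op ⦋p + 1⦌) :=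
  mkHom ε (fun _ hx => mem_preW ε g hx)
    (coneVertex (q := A.base.unop.len) (baseOf (B := (preQ ε W).obj (op ⦋p⦌)) g).unop).op

theorem coneMap_δ_zero (A : Tot Z) (p : ℕ) (g : A ⟶ (preQ ε W).obj (op ⦋p⦌)) :
    coneMap ε A p g ≫ (preQ ε W).map (SimplexCategory.δ 0).op = g := by
  refine Tot.ext' ?_
  exact congrArg Quiver.Hom.op (δ_zero_coneVertex (q := A.base.unop.len)
    (baseOf (B := (preQ ε W).obj (op ⦋p⦌)) g).unop)

theorem coneMap_δ_succ (A : Tot Z) (p : ℕ) (g : A ⟶ (preQ ε W).obj (op ⦋p + 1⦌)) (i : Fin (p + 2)) :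
    coneMap ε A (p + 1) g ≫ (preQ ε W).map (SimplexCategory.δ i.succ).op =
      coneMap ε A p (g ≫ (preQ ε W).map (SimplexCategory.δ i).op) := by
  refine Tot.ext' ?_
  exact congrArg Quiver.Hom.op (δ_succ_coneVertex (q := A.base.unop.len)
    (baseOf (B := (preQ ε W).obj (op ⦋p + 1⦌)) g).unop i)

theorem homotopy_eq (A : Tot Z) (p : ℕ) (x : FreeAbelianGroup (A ⟶ (preQ ε W).obj (op ⦋p + 1⦌))) :
    dFree ε A (p + 1) (FreeAbelianGroup.map (coneMap ε A (p + 1)) x) +
      FreeAbelianGroup.map (coneMap ε A p) (dFree ε A p x) = x := by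
  induction x using FreeAbelianGroup.induction_on with
  | zero => simp
  | of g =>
    have hd : ∀ (m : ℕ) (g : A ⟶ (preQ ε W).obj (op ⦋m + 1⦌)), dFree ε A m (FreeAbelianGroup.of g) = _ :=
      fun m g => objD_gen ε m A g
    rw [FreeAbelianGroup.map_of_apply, hd, hd, map_sum, Fin.sum_univ_succ, coneMap_δ_zero]
    simp only [Fin.val_zero, pow_zero, one_zsmul, map_zsmul, FreeAbelianGroup.map_of_apply, coneMap_δ_succ,
      Fin.val_succ, pow_succ, mul_neg, mul_one, neg_smul, Finset.sum_neg_distrib]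
    exact neg_add_cancel_right _ _
  | neg g h =>
    simp only [map_neg, ← neg_add, h]
  | add a b ha hb =>
    simp only [map_add]
    rw [add_add_add_comm, ha, hb]

theorem exact_freeS (p : ℕ) :
    (ShortComplex.mk (AlgebraicTopology.AlternatingFaceMapComplex.objD (freeS ε W) (p + 1))
      (AlgebraicTopology.AlternatingFaceMapComplex.objD (freeS ε W) p)
      (AlgebraicTopology.AlternatingFaceMapComplex.d_squared (freeS ε W) p)).Exact := by
  refine exact_of_evaluation _ fun A => ?_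
  rw [ShortComplex.ab_exact_iff]
  intro x hx
  obtain ⟨A⟩ := A
  refine ⟨FreeAbelianGroup.map (coneMap ε A (p + 1)) x, ?_⟩
  have h := homotopy_eq ε A p x
  have hx' : dFree ε A p x = 0 := hx
  rw [hx', map_zero, add_zero] at h
  exact h

/-- An injective sheaf is an injective presheaf. -/
theorem injective_obj (I : TSh Z) [Injective I] : Injective I.obj :=
  Injective.injective_of_adjoint (sheafificationAdjunction (totJ Z) AddCommGrpCat.{u}) I

variable (W) in
/-- The coface map on sections over the preimages. -/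
def cofaceSec (P : (Tot Z)ᵒᵖ ⥤ AddCommGrpCat.{u}) (p : ℕ) :
    P.obj (op ((preQ ε W).obj (op ⦋p⦌))) ⟶ P.obj (op ((preQ ε W).obj (op ⦋p + 1⦌))) :=
  ∑ i : Fin (p + 2), (-1 : ℤ) ^ (i : ℕ) • P.map ((preQ ε W).map (SimplexCategory.δ i).op).op

theorem cofaceSec_hom (P : (Tot Z)ᵒᵖ ⥤ AddCommGrpCat.{u}) (p : ℕ)
    (φ : (freeS ε W).obj (op ⦋p⦌) ⟶ P) :
    cofaceSec ε W P p (φ.app (op ((preQ ε W).obj (op ⦋p⦌))) (gen _)) =
      (AlgebraicTopology.AlternatingFaceMapComplex.objD (freeS ε W) p ≫ φ).app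
        (op ((preQ ε W).obj (op ⦋p + 1⦌))) (gen _) := by
  change _ = φ.app _ ((AlgebraicTopology.AlternatingFaceMapComplex.objD (freeS ε W) p).app _ (gen _))
  rw [objD_gen, map_sum, cofaceSec, sum_apply]
  refine Finset.sum_congr rfl fun i _ => ?_
  rw [map_zsmul, Category.id_comp]
  exact congrArg (fun y => (-1 : ℤ) ^ (i : ℕ) • y) (hom_gen φ ((preQ ε W).map (SimplexCategory.δ i).op)).symm

theorem cofaceSec_sq (P : (Tot Z)ᵒᵖ ⥤ AddCommGrpCat.{u}) (p : ℕ)
    (x : P.obj (op ((preQ ε W).obj (op ⦋p⦌)))) : cofaceSec ε W P (p + 1) (cofaceSec ε W P p x) = 0 := by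
  let φ : (freeS ε W).obj (op ⦋p⦌) ⟶ P := secHom P x
  have hφ : φ.app (op ((preQ ε W).obj (op ⦋p⦌))) (gen _) = x := secHom_gen P x
  rw [← hφ, cofaceSec_hom]
  refine (cofaceSec_hom ε P (p + 1) _).trans ?_
  rw [← Category.assoc, AlgebraicTopology.AlternatingFaceMapComplex.d_squared, zero_comp]
  rfl

/-- The coface complex of an injective sheaf is exact in positive degrees. -/
theorem exists_cofaceSec (I : TSh Z) [Injective I] (p : ℕ)
    (x : I.obj.obj (op ((preQ ε W).obj (op ⦋p + 1⦌)))) (hx : cofaceSec ε W I.obj (p + 1) x = 0) :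
    ∃ y, cofaceSec ε W I.obj p y = x := by
  haveI := injective_obj I
  let φ : (freeS ε W).obj (op ⦋p + 1⦌) ⟶ I.obj := secHom I.obj x
  have hφ : φ.app (op ((preQ ε W).obj (op ⦋p + 1⦌))) (gen _) = x := secHom_gen I.obj x
  have h0 : AlgebraicTopology.AlternatingFaceMapComplex.objD (freeS ε W) (p + 1) ≫ φ = 0 := by
    refine hom_ext_gen _ _ ?_
    rw [← hφ, cofaceSec_hom] at hx
    exact hx
  refine ⟨((exact_freeS ε p).descToInjective φ h0).app _ (gen _), ?_⟩
  rw [cofaceSec_hom]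
  refine Eq.trans ?_ hφ
  exact congrArg (fun ψ : (freeS ε W).obj (op ⦋p + 1⦌) ⟶ I.obj => ψ.app _ (gen _))
    ((exact_freeS ε p).comp_descToInjective φ h0)

end Simpl

end

end Groth.ProperFibDescLib
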