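import Groth.Agent.ProperFibDescLib.Base
import Groth.Agent.DescLib.Rules
import Groth.Agent.CohTopLib.ProperDesc

/-!
# Proper surjections with separated fibres are of cohomological descent
-/

set_option autoImplicit false
set_option linter.style.haveILetI false
set_option backward.isDefEq.respectTransparency false
set_option backward.isDefEq.respectTransparency.types false

universe u
open CategoryTheory CategoryTheory.Limits TopologicalSpace Opposite Simplicial

namespace Groth.ProperFibDescLib

open Groth.DescLib CohTopLib.FlasqueRes CohTopLib.GermFam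

noncomputable section

attribute [local instance] HasDerivedCategory.standard

/-- A map which is an isomorphism after inverse image is one on the stalks. -/
theorem isIso_stk_of_pull {T S : TopCat.{u}} (j : T ⟶ S) {P Q : QCohLib.AbSh S} (φ : P ⟶ Q)
    [IsIso ((CohTop.pull j).map φ)] (z : T) : IsIso ((stk (j z)).map φ) := by
  rw [ConcreteCategory.isIso_iff_bijective]
  have key : ∀ a, (stk z).map ((CohTop.pull j).map φ) (pullStalk j P z a) =
      pullStalk j Q z ((stk (j z)).map φ a) := by
    intro a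
    obtain ⟨V, hV, s, rfl⟩ := TopCat.Presheaf.exists_germ_eq (X := S) P.obj a
    refine (congrArg _ (pullStalk_germ j P z V hV s)).trans ?_
    refine (TopCat.Presheaf.stalkFunctor_map_germ_apply (X := T) _ z hV _ _).trans ?_
    refine Eq.trans ?_ (congrArg (pullStalk j Q z)
      (TopCat.Presheaf.stalkFunctor_map_germ_apply (X := S) V (j z) hV φ.hom s).symm)
    refine Eq.trans ?_ (pullStalk_germ j Q z V hV _).symm
    refine congrArg _ ?_
    exact (ConcreteCategory.congr_hom (congrArg (fun q => q.hom.app (op V))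
      ((TopCat.Sheaf.pullbackPushforwardAdjunction AddCommGrpCat.{u} j).unit.naturality φ)) s).symm
  have hb : Function.Bijective ((stk z).map ((CohTop.pull j).map φ)) :=
    ConcreteCategory.bijective_of_isIso _
  have h : Function.Bijective (pullStalk j Q z ∘ (stk (j z)).map φ) := by
    rw [show (pullStalk j Q z ∘ (stk (j z)).map φ) = (stk z).map ((CohTop.pull j).map φ) ∘ pullStalk j P z from
      funext fun a => (key a).symm]
    exact hb.comp (bijective_pullStalk j P z)
  exact (Function.Bijective.of_comp_iff' (bijective_pullStalk j Q z) _).mp h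

/-- Acyclicity can be checked on stalks. -/
theorem acyclic_of_stk {T : TopCat.{u}} (C : CochainComplex (QCohLib.AbSh T) ℤ)
    (h : ∀ y, (((stk y).mapHomologicalComplex (ComplexShape.up ℤ)).obj C).Acyclic) : C.Acyclic := by
  intro i
  rw [HomologicalComplex.exactAt_iff, ShortComplex.exact_iff_isZero_homology]
  have hx : ∀ y, IsZero ((stk y).obj (C.sc i).homology) := fun y => by
    haveI : PreservesFiniteLimits (stk y) := inferInstance
    haveI : (stk y).PreservesHomology := Functor.preservesHomologyOfExact _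
    refine IsZero.of_iso ?_ ((C.sc i).mapHomologyIso (stk y)).symm
    exact (ShortComplex.exact_iff_isZero_homology _).mp ((HomologicalComplex.exactAt_iff _ _).mp (h y i))
  rw [IsZero.iff_id_eq_zero]
  refine Sheaf.hom_ext (NatTrans.ext (funext fun U => ?_))
  ext s
  exact TopCat.Presheaf.section_ext ((C.sc i).homology : TopCat.Sheaf AddCommGrpCat T) U.unop _ _ fun y _ =>
    (AddCommGrpCat.subsingleton_of_isZero (hx y)).elim _ _

section Abstract

variable {Z Z' : SimplexCategoryᵒᵖ ⥤ TopCat.{u}} {S T : TopCat.{u}}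
  (ε : Z ⟶ (Functor.const SimplexCategoryᵒᵖ).obj S) (ε' : Z' ⟶ (Functor.const SimplexCategoryᵒᵖ).obj T)
  (j : T ⟶ S) (γ : Z' ⟶ Z) (hw : γ ≫ ε = ε' ≫ (Functor.const SimplexCategoryᵒᵖ).map j)
  (H : ∀ p, CohTopLib.ProperBC.Hyp (epi ε p) j (epi ε' p) (γ.app (op ⦋p⦌)))

theorem cofD_cofD (M : TSh Z) (p : ℕ) : (cofD ε p).app M ≫ (cofD ε (p + 1)).app M = 0 :=
  Sheaf.hom_ext (NatTrans.ext (funext fun W => AddCommGrpCat.hom_ext (AddMonoidHom.ext fun x =>
    cofaceSec_sq ε M.obj p x)))

theorem cofE_cofD (M : TSh Z) : (cofE ε).app M ≫ (cofD ε 0).app M = 0 :=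
  Sheaf.hom_ext (NatTrans.ext (funext fun W => AddCommGrpCat.hom_ext (AddMonoidHom.ext fun x =>
    cofD_cofE ε M W.unop x)))

theorem exact_cofD (M : TSh Z) [Injective M] (p : ℕ) :
    (ShortComplex.mk ((cofD ε p).app M) ((cofD ε (p + 1)).app M) (cofD_cofD ε M p)).Exact :=
  CohTopLib.DescExact.exact_of_local _ fun W x hx s hs => by
    obtain ⟨t, ht⟩ := exists_cofaceSec ε M p s hs
    exact ⟨W, le_rfl, t, hx, ht.trans (ConcreteCategory.congr_hom ((((cofT ε (p + 1)).obj M).obj).map_id _) s).symm⟩

theorem exact_cofE (M : TSh Z) :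
    (ShortComplex.mk ((cofE ε).app M) ((cofD ε 0).app M) (cofE_cofD ε M)).Exact :=
  CohTopLib.DescExact.exact_of_local _ fun W x hx s hs => by
    obtain ⟨t, ht⟩ := exists_cofE ε M W s hs
    exact ⟨W, le_rfl, t, hx, ht.trans (ConcreteCategory.congr_hom ((((cofT ε 0).obj M).obj).map_id _) s).symm⟩

theorem mono_cofE (M : TSh Z) : Mono ((cofE ε).app M) := by
  haveI : ∀ W, Mono (((cofE ε).app M).hom.app W) := fun W => by
    rw [AddCommGrpCat.mono_iff_injective]
    exact injective_cofE ε M W.unop
  exact (sheafToPresheaf _ AddCommGrpCat.{u}).mono_of_mono_map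
    (NatTrans.mono_of_mono_app ((cofE ε).app M).hom)

include H in
/-- The columns are exact after restriction to the subspace. -/
theorem acyclic_column (p : ℕ) (C : CochainComplex (TSh Z) ℤ) (n : ℤ) [C.IsStrictlyGE n]
    [∀ i, Injective (C.X i)]
    (h : ((CohTop.pull (γ.app (op ⦋p⦌))).mapHomologicalComplex (ComplexShape.up ℤ)).obj
      (((lev Z p).mapHomologicalComplex (ComplexShape.up ℤ)).obj C) |>.Acyclic) :
    (((cofT ε p ⋙ CohTop.pull j).mapHomologicalComplex (ComplexShape.up ℤ)).obj C).Acyclic := by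
  let L : CochainComplex _ ℤ := ((lev Z p).mapHomologicalComplex (ComplexShape.up ℤ)).obj C
  let P : CochainComplex _ ℤ := ((CohTop.pull (γ.app (op ⦋p⦌))).mapHomologicalComplex (ComplexShape.up ℤ)).obj L
  haveI : P.IsStrictlyGE n := inferInstance
  have hterms : ∀ i, SpSeqLib.IsSAcyclic (CohTop.push (epi ε' p)) (P.X i) := fun i => by
    rw [SpSeqLib.isSAcyclic_iff]
    rintro (_ | q) hq
    · exact absurd hq (lt_irrefl 0)
    · haveI := isFlasque_lev (C.X i) p
      exact (H p).isZero_Rpush_pull ((lev Z p).obj (C.X i)) q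
  haveI : PreservesFiniteLimits (CohTop.push (epi ε' p)) :=
    haveI := (TopCat.Sheaf.pullbackPushforwardAdjunction AddCommGrpCat.{u} (epi ε' p)).rightAdjoint_preservesLimits.{0, 0}
    PreservesLimitsOfSize.preservesFiniteLimits _
  have hP := SpSeqLib.acyclic_map_of_isSAcyclic (CohTop.push (epi ε' p)) P n h hterms
  haveI := (H p).isIso_beta
  haveI : IsIso (H p).beta := NatIso.isIso_of_isIso_app _
  exact fun i => (hP i).of_iso
    ((NatIso.mapHomologicalComplex (asIso (H p).beta) (ComplexShape.up ℤ)).app L).symm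

include H in
/-- The direct image of the complex is acyclic after restriction to the subspace. -/
theorem acyclic_augR (C : CochainComplex (TSh Z) ℤ) (n : ℤ) [C.IsStrictlyGE n] [∀ i, Injective (C.X i)]
    (h : ∀ p, ((CohTop.pull (γ.app (op ⦋p⦌))).mapHomologicalComplex (ComplexShape.up ℤ)).obj
      (((lev Z p).mapHomologicalComplex (ComplexShape.up ℤ)).obj C) |>.Acyclic) :
    (((augR ε ⋙ CohTop.pull j).mapHomologicalComplex (ComplexShape.up ℤ)).obj C).Acyclic := by
  refine acyclic_of_stk _ fun y => ?_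
  let r : QCohLib.AbSh S ⥤ AddCommGrpCat.{u} := CohTop.pull j ⋙ stk y
  haveI : r.Additive := inferInstanceAs (CohTop.pull j ⋙ stk y).Additive
  haveI : PreservesFiniteLimits (CohTop.pull j) := CohTopLib.preservesFiniteLimits_pull j
  haveI : PreservesFiniteLimits r := comp_preservesFiniteLimits _ _
  haveI : PreservesFiniteColimits (CohTop.pull j) :=
    haveI := (TopCat.Sheaf.pullbackPushforwardAdjunction AddCommGrpCat.{u} j).leftAdjoint_preservesColimits.{0, 0}
    PreservesColimitsOfSize.preservesFiniteColimits _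
  haveI : PreservesFiniteColimits (stk y) :=
    haveI := (Adjunction.ofIsLeftAdjoint (stk y)).leftAdjoint_preservesColimits.{0, 0}
    PreservesColimitsOfSize.preservesFiniteColimits _
  haveI : PreservesFiniteColimits r := comp_preservesFiniteColimits _ _
  haveI : r.PreservesHomology := Functor.preservesHomologyOfExact r
  refine acyclic_of_columns (fun p => cofT ε p ⋙ r) (fun p => Functor.whiskerRight (cofD ε p) r)
    (augR ε ⋙ r) (Functor.whiskerRight (cofE ε) r) C n ?_ ?_ ?_ ?_ ?_ ?_
  · intro p i x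
    have e := ((r.map_comp _ _).symm.trans (congrArg r.map (cofD_cofD ε (C.X i) p))).trans (r.map_zero _ _)
    exact ConcreteCategory.congr_hom e x
  · intro p i x hx
    exact (ShortComplex.ab_exact_iff _).mp ((exact_cofD ε (C.X i) p).map r) x hx
  · intro i
    haveI := mono_cofE ε (C.X i)
    exact (AddCommGrpCat.mono_iff_injective _).mp (inferInstanceAs (Mono (r.map ((cofE ε).app (C.X i)))))
  · intro i x
    have e := ((r.map_comp _ _).symm.trans (congrArg r.map (cofE_cofD ε (C.X i)))).trans (r.map_zero _ _)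
    exact ConcreteCategory.congr_hom e x
  · intro i x hx
    exact (ShortComplex.ab_exact_iff _).mp ((exact_cofE ε (C.X i)).map r) x hx
  · intro p i
    haveI : (stk y).PreservesHomology := Functor.preservesHomologyOfExact _
    exact (acyclic_column ε ε' j γ H p C n (h p) i).map (stk y)

include hw H in
/-- The unit is an isomorphism on the subspace. -/
theorem quasiIso_pull_transpose (hT : ∀ p, Topology.IsInducing (γ.app (op ⦋p⦌))) (hj : Topology.IsInducing j)
    (hd : Desc ε') (L : CochainComplex (QCohLib.AbSh S) ℤ) (n : ℤ) [L.IsStrictlyGE n]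
    (I : CochainComplex (TSh Z) ℤ) [I.IsStrictlyGE n] [∀ i, Injective (I.X i)]
    (α : ((augθ ε).mapHomologicalComplex (ComplexShape.up ℤ)).obj L ⟶ I) [QuasiIso α] :
    QuasiIso (((CohTop.pull j).mapHomologicalComplex (ComplexShape.up ℤ)).map (transposeC (augAdj ε) α)) := by
  let γadj := (pullF γ).sheafAdjunctionContinuous AddCommGrpCat.{u} (totJ Z) (totJ Z')
  obtain ⟨J, β, _, _, _⟩ := exists_resolution (θ := pullS γ) I n
  let φ := transposeC γadj β
  haveI hJinj : ∀ i, Injective (((pushS γ).mapHomologicalComplex (ComplexShape.up ℤ)).obj J |>.X i) :=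
    fun i => injective_map γadj (J.X i)
  haveI : ∀ i, Injective ((CochainComplex.mappingCone φ).X i) := fun i =>
    Injective.of_iso (HomologicalComplex.homotopyCofiber.XIsoBiprod φ i (i + 1) rfl).symm inferInstance
  haveI : (CochainComplex.mappingCone φ).IsStrictlyGE (n - 1) :=
    CochainComplex.isStrictlyGE_mappingCone φ n n (n - 1)
  have hcol : ∀ p, ((CohTop.pull (γ.app (op ⦋p⦌))).mapHomologicalComplex (ComplexShape.up ℤ)).obj
      (((lev Z p).mapHomologicalComplex (ComplexShape.up ℤ)).obj (CochainComplex.mappingCone φ)) |>.Acyclic := by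
    intro p
    haveI : PreservesFiniteLimits (lev Z' p) := preservesFiniteLimits_restr _ _ _
    haveI : PreservesFiniteColimits (lev Z' p) := preservesFiniteColimits_restr _ _ _
    haveI := levTau_isIso γ p
    haveI := lev_guitartExact γ p
    haveI := isIso_sigmaSquare (J₀ := totJ Z) (J₁ := Opens.grothendieckTopology (Z.obj (op ⦋p⦌))) (J := totJ Z')
      (JG := Opens.grothendieckTopology (Z'.obj (op ⦋p⦌))) (totι Z (op ⦋p⦌)) (pullF γ)
      (Opens.map (γ.app (op ⦋p⦌))) (totι Z' (op ⦋p⦌)) (levTau γ p)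
    refine (quasiIso_map_iff_cone (lev Z p ⋙ CohTop.pull (γ.app (op ⦋p⦌))) φ).mp ?_
    haveI : IsIso (TopCat.Sheaf.pullbackPushforwardAdjunction AddCommGrpCat.{u} (γ.app (op ⦋p⦌))).counit :=
      haveI := fun G => isIso_counit (γ.app (op ⦋p⦌)) (hT p) G
      NatIso.isIso_of_isIso_app _
    let cc := (NatIso.mapHomologicalComplex (asIso (TopCat.Sheaf.pullbackPushforwardAdjunction AddCommGrpCat.{u}
      (γ.app (op ⦋p⦌))).counit) (ComplexShape.up ℤ)).app (((lev Z' p).mapHomologicalComplex (ComplexShape.up ℤ)).obj J)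
    let σc := (NatIso.mapHomologicalComplex (asIso (sigmaSquare (J₀ := totJ Z)
      (J₁ := Opens.grothendieckTopology (Z.obj (op ⦋p⦌))) (J := totJ Z')
      (JG := Opens.grothendieckTopology (Z'.obj (op ⦋p⦌))) (totι Z (op ⦋p⦌)) (pullF γ)
      (Opens.map (γ.app (op ⦋p⦌))) (totι Z' (op ⦋p⦌)) (levTau γ p)).natTrans) (ComplexShape.up ℤ)).app I
    rw [← quasiIso_iff_comp_right _ cc.hom]
    have key : ((lev Z p ⋙ CohTop.pull (γ.app (op ⦋p⦌))).mapHomologicalComplex (ComplexShape.up ℤ)).map φ ≫ cc.hom =
        σc.hom ≫ ((lev Z' p).mapHomologicalComplex (ComplexShape.up ℤ)).map β := by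
      refine HomologicalComplex.hom_ext _ _ fun i => ?_
      exact lev_transpose γ p (I.X i) (J.X i) (β.f i)
    rw [key]
    haveI : QuasiIso (((lev Z' p).mapHomologicalComplex (ComplexShape.up ℤ)).map β) := by
      haveI : (lev Z' p).PreservesHomology := Functor.preservesHomologyOfExact _
      infer_instance
    haveI : QuasiIso σc.hom := inferInstance
    exact quasiIso_comp σc.hom _
  have hR : QuasiIso (((augR ε ⋙ CohTop.pull j).mapHomologicalComplex (ComplexShape.up ℤ)).map φ) :=
    (quasiIso_map_iff_cone _ φ).mpr (acyclic_augR ε ε' j γ H _ (n - 1) hcol)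
  haveI : IsIso (TopCat.Sheaf.pullbackPushforwardAdjunction AddCommGrpCat.{u} j).counit :=
    haveI := fun G => isIso_counit j hj G
    NatIso.isIso_of_isIso_app _
  let ψ : pushS γ ⋙ augR ε ⋙ CohTop.pull j ≅ augR ε' :=
    (Functor.associator _ _ _).symm ≪≫ Functor.isoWhiskerRight (pushComm ε ε' j γ hw) _ ≪≫
      Functor.associator _ _ _ ≪≫ Functor.isoWhiskerLeft _
        (asIso (TopCat.Sheaf.pullbackPushforwardAdjunction AddCommGrpCat.{u} j).counit) ≪≫ Functor.rightUnitor _
  let ψc := (NatIso.mapHomologicalComplex ψ (ComplexShape.up ℤ)).app J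
  let θc := (NatIso.mapHomologicalComplex (thetaIso ε ε' j γ hw) (ComplexShape.up ℤ)).app L
  haveI : (CohTop.pull j).Additive := CohTopLib.FibreCoh.additive_pull j
  haveI : CochainComplex.IsStrictlyGE (((CohTop.pull j).mapHomologicalComplex (ComplexShape.up ℤ)).obj L) n :=
    inferInstance
  let a' : ((augθ ε').mapHomologicalComplex (ComplexShape.up ℤ)).obj
      (((CohTop.pull j).mapHomologicalComplex (ComplexShape.up ℤ)).obj L) ⟶ J :=
    θc.inv ≫ ((pullS γ).mapHomologicalComplex (ComplexShape.up ℤ)).map α ≫ β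
  haveI : QuasiIso a' := by dsimp only [a']; infer_instance
  haveI := unitCrit_of_isFFPlus (augAdj ε') hd _ n J a'
  let φ' := ((augR ε ⋙ CohTop.pull j).mapHomologicalComplex (ComplexShape.up ℤ)).map φ ≫ ψc.hom
  haveI : QuasiIso φ' := by dsimp only [φ']; infer_instance
  have key : ((CohTop.pull j).mapHomologicalComplex (ComplexShape.up ℤ)).map (transposeC (augAdj ε) α) ≫ φ' =
      transposeC (augAdj ε') a' := by
    refine HomologicalComplex.hom_ext _ _ fun i => ?_
    refine Eq.trans ?_ (pull_transpose ε ε' j γ hw (L.X i) (I.X i) (J.X i) (α.f i) (β.f i))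
    change _ ≫ (CohTop.pull j).map ((augR ε).map (γadj.homEquiv (I.X i) (J.X i) (β.f i))) ≫ ψ.hom.app (J.X i) = _
    simp [ψ]
    rfl
  rw [← quasiIso_iff_comp_right _ φ', key]
  infer_instance

end Abstract

variable {X S : TopCat.{u}} (f : X ⟶ S)

/-- The terms of the Čech nerve of a proper map with separated fibres are proper and separated. -/
theorem proper_base (hf : IsProperMap f) (hs : CohTopLib.ProperDesc.SepFib f) (p : ℕ) :
    IsProperMap (epi (cechEps f) p) ∧ ∀ x x', epi (cechEps f) p x = epi (cechEps f) p x' → x ≠ x' →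
      ∃ U V : Set ((cech f).obj (op ⦋p⦌)), IsOpen U ∧ IsOpen V ∧ x ∈ U ∧ x' ∈ V ∧ Disjoint U V := by
  let a := SimplexCategory.mk p
  let φ : ((CohTopLib.LocalHomeoDesc.K f).obj (op a)).left ⟶ widePullback S (fun _ : Fin (p + 1) => X) (fun _ => f) :=
    WidePullback.lift (CohTopLib.LocalHomeoDesc.π f a)
      (fun i => TopCat.ofHom ⟨fun z : CohTopLib.LocalHomeoDesc.Pts f a => z.1.1 i,
      (continuous_apply i).comp (continuous_fst.comp continuous_subtype_val)⟩) fun i => by
      ext z
      exact (show CohTopLib.LocalHomeoDesc.Pts f a from z).2 i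
  let ψ : widePullback S (fun _ : Fin (p + 1) => X) (fun _ => f) ⟶ ((CohTopLib.LocalHomeoDesc.K f).obj (op a)).left :=
    TopCat.ofHom ⟨fun w => (⟨(fun i => WidePullback.π (fun _ : Fin (p + 1) => f) i w,
      WidePullback.base (fun _ : Fin (p + 1) => f) w),
      fun i => ConcreteCategory.congr_hom (WidePullback.π_arrow (fun _ : Fin (p + 1) => f) i) w⟩ :
        CohTopLib.LocalHomeoDesc.Pts f a),
      ((continuous_pi fun i => (WidePullback.π (fun _ : Fin (p + 1) => f) i).hom.continuous).prodMk
        (WidePullback.base (fun _ : Fin (p + 1) => f)).hom.continuous).subtype_mk _⟩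
  have h1 : φ ≫ ψ = 𝟙 _ := by
    ext z
    refine Subtype.ext (Prod.ext (funext fun i => ?_) ?_)
    · exact ConcreteCategory.congr_hom (WidePullback.lift_π (fun _ : Fin (p + 1) => f)
        (CohTopLib.LocalHomeoDesc.π f a) _ _ i) z
    · exact ConcreteCategory.congr_hom (WidePullback.lift_base (fun _ : Fin (p + 1) => f)
        (CohTopLib.LocalHomeoDesc.π f a) _ _) z
  have h2 : ψ ≫ φ = 𝟙 _ := by
    refine WidePullback.hom_ext _ _ _ (fun i => ?_) ?_
    · rw [Category.assoc, WidePullback.lift_π, Category.id_comp]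
      rfl
    · rw [Category.assoc, WidePullback.lift_base, Category.id_comp]
      rfl
  let e := TopCat.homeoOfIso (X := widePullback S (fun _ : Fin (p + 1) => X) (fun _ => f))
    (Y := ((CohTopLib.LocalHomeoDesc.K f).obj (op a)).left) ⟨ψ, φ, h2, h1⟩
  refine ⟨(CohTopLib.ProperDesc.isProperMap_π f hf a).comp e.isProperMap, fun x x' hx hne => ?_⟩
  obtain ⟨U, V, hU, hV, hxU, hxV, hUV⟩ := CohTopLib.ProperDesc.sep_π f hs a _ (e x)
    (show CohTopLib.LocalHomeoDesc.π f a (e x) = _ from rfl) (e x') hx.symm (e.injective.ne hne)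
  exact ⟨e ⁻¹' U, e ⁻¹' V, hU.preimage e.continuous, hV.preimage e.continuous, hxU, hxV, hUV.preimage _⟩

/-- Proper base change data for a cartesian square over a proper map. -/
theorem hyp_of_isPullback {A B A' B' : TopCat.{u}} {f : A ⟶ B} {g : B' ⟶ B} {f' : A' ⟶ B'} {g' : A' ⟶ A}
    (sq : IsPullback g' f' f g) (hf : IsProperMap f)
    (hs : ∀ x x' : A, f x = f x' → x ≠ x' → ∃ U V : Set A, IsOpen U ∧ IsOpen V ∧ x ∈ U ∧ x' ∈ V ∧ Disjoint U V) :
    CohTopLib.ProperBC.Hyp f g f' g' ∧ (Topology.IsInducing g → Topology.IsInducing g') := by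
  let h := TopCat.homeoOfIso (sq.isoPullback ≪≫ TopCat.pullbackIsoProdSubtype f g)
  have hfst : ∀ a, (h a).1.1 = g' a := fun a => by
    change (TopCat.pullbackFst f g) ((TopCat.pullbackIsoProdSubtype f g).hom (sq.isoPullback.hom a)) = g' a
    rw [← ConcreteCategory.comp_apply, ← ConcreteCategory.comp_apply, TopCat.pullbackIsoProdSubtype_hom_fst f g,
      sq.isoPullback_hom_fst]
  have hsnd : ∀ a, (h a).1.2 = f' a := fun a => by
    change (TopCat.pullbackSnd f g) ((TopCat.pullbackIsoProdSubtype f g).hom (sq.isoPullback.hom a)) = f' a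
    rw [← ConcreteCategory.comp_apply, ← ConcreteCategory.comp_apply, TopCat.pullbackIsoProdSubtype_hom_snd f g,
      sq.isoPullback_hom_snd]
  let P : Set (B × B') := {p | p.1 = g p.2}
  let eS : P ≃ₜ B' :=
    { toFun := fun p => p.1.2
      invFun := fun y => ⟨(g y, y), rfl⟩
      left_inv := fun p => Subtype.ext (Prod.ext p.2.symm rfl)
      right_inv := fun _ => rfl
      continuous_toFun := continuous_snd.comp continuous_subtype_val
      continuous_invFun := ((g.hom.continuous).prodMk continuous_id).subtype_mk _ }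
  have hP : IsProperMap (P.restrictPreimage (Prod.map f (id : B' → B'))) :=
    (hf.prodMap (Homeomorph.refl B').isProperMap).restrictPreimage P
  have hf' : IsProperMap f' := by
    have hcomp : (f' : A' → B') = fun a => eS (P.restrictPreimage (Prod.map f (id : B' → B')) (h a)) :=
      funext fun a => (hsnd a).symm
    rw [hcomp]
    exact eS.isProperMap.comp (hP.comp h.isProperMap)
  refine ⟨⟨fun a => ?_, fun a b h1 h2 => ?_, fun x y' hxy => ?_,
    hf.isClosedMap, hf'.isClosedMap, fun y' => hf'.isCompact_preimage isCompact_singleton, hs⟩, fun hg => ?_⟩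
  · exact ConcreteCategory.congr_hom sq.w a
  · refine h.injective (Subtype.ext (Prod.ext ?_ ?_))
    · rw [hfst, hfst]; exact h1
    · rw [hsnd, hsnd]; exact h2
  · obtain ⟨a, ha⟩ := h.surjective ⟨(x, y'), hxy⟩
    exact ⟨a, by rw [← hfst, ha], by rw [← hsnd, ha]⟩
  · have hc : ((fun x => (x, f x)) ∘ g' : A' → A × B) =
        Prod.map id g ∘ Subtype.val ∘ h := funext fun a => Prod.ext (hfst a).symm
      ((ConcreteCategory.congr_hom sq.w a).trans (congrArg g (hsnd a).symm))
    have hh : Topology.IsInducing ((fun x => (x, f x)) ∘ g' : A' → A × B) := by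
      rw [hc]
      exact (Topology.IsInducing.id.prodMap hg).comp (Topology.IsInducing.subtypeVal.comp h.isInducing)
    exact Topology.IsInducing.of_comp g'.hom.continuous (continuous_id.prodMk f.hom.continuous) hh

theorem isCohDescentMap_of_proper (hf : IsProperMap f) (hs : CohTopLib.ProperDesc.SepFib f)
    (hsurj : Function.Surjective f) : FibDesc.IsCohDescentMap f := by
  rw [isCohDescentMap_iff_desc]
  refine isFFPlus_of_unitCrit (augAdj (cechEps f)) ?_
  intro L n _ I _ _ α _
  rw [quasiIso_iff]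
  intro i
  rw [quasiIsoAt_iff_isIso_homologyMap]
  haveI : ∀ s : S, IsIso ((TopCat.Presheaf.stalkFunctor AddCommGrpCat.{u} (X := S) s).map
      (HomologicalComplex.homologyMap (transposeC (augAdj (cechEps f)) α) i).hom) := by
    intro s
    let pt : TopCat.{u} := TopCat.of PUnit.{u + 1}
    let j : pt ⟶ S := TopCat.ofHom ⟨fun _ => s, continuous_const⟩
    have hj : Topology.IsInducing j := ⟨Subsingleton.elim _ _⟩
    have hd : Desc (bcEps f j) := (isCohDescentMap_snd_iff f j).mp (by
      obtain ⟨v, hv⟩ := hsurj s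
      let v₀ : pt ⟶ X := TopCat.ofHom ⟨fun _ => v, continuous_const⟩
      exact FibDescSec.isCohDescentMap_of_section _
        (pullback.lift v₀ (𝟙 pt) (by ext; exact hv)) (pullback.lift_snd _ _ _))
    let γ : bc f j ⟶ cech f := bcFst f j
    have hw : γ ≫ cechEps f = bcEps f j ≫ (Functor.const SimplexCategoryᵒᵖ).map j := by
      refine NatTrans.ext (funext fun m => ?_)
      exact pullback.condition (f := (cechEps f).app m) (g := j)
    have hb : ∀ p : ℕ, CohTopLib.ProperBC.Hyp (epi (cechEps f) p) j (epi (bcEps f j) p) (γ.app (op ⦋p⦌)) ∧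
        (Topology.IsInducing j → Topology.IsInducing (γ.app (op ⦋p⦌))) := fun p => by
      have sq : IsPullback (γ.app (op ⦋p⦌)) (epi (bcEps f j) p) (epi (cechEps f) p) j :=
        IsPullback.of_hasPullback (show (cech f).obj (op ⦋p⦌) ⟶ S from epi (cechEps f) p) j
      exact hyp_of_isPullback sq (proper_base f hf hs p).1 (proper_base f hf hs p).2
    haveI := quasiIso_pull_transpose (cechEps f) (bcEps f j) j γ hw (fun p => (hb p).1)
      (fun p => (hb p).2 hj) hj hd L n I α
    haveI : PreservesFiniteLimits (CohTop.pull j) := CohTopLib.preservesFiniteLimits_pull j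
    haveI : PreservesFiniteColimits (CohTop.pull j) :=
      haveI := (TopCat.Sheaf.pullbackPushforwardAdjunction AddCommGrpCat.{u} j).leftAdjoint_preservesColimits.{0, 0}
      PreservesColimitsOfSize.preservesFiniteColimits _
    haveI : (CohTop.pull j).Additive := CohTopLib.FibreCoh.additive_pull j
    haveI := isIso_map_homologyMap (CohTop.pull j) (transposeC (augAdj (cechEps f)) α) i
    exact isIso_stk_of_pull j _ (z := PUnit.unit)
  exact TopCat.Presheaf.isIso_of_stalkFunctor_map_iso
    (F := ((L.homology i : QCohLib.AbSh S) : TopCat.Sheaf AddCommGrpCat S))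
    (G := (((((augR (cechEps f)).mapHomologicalComplex (ComplexShape.up ℤ)).obj I).homology i : QCohLib.AbSh S) :
      TopCat.Sheaf AddCommGrpCat S)) (HomologicalComplex.homologyMap (transposeC (augAdj (cechEps f)) α) i)

end

end Groth.ProperFibDescLib
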